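import Groth.Agent.S3015
import Groth.Agent.S3039
import Groth.Agent.Lib.GrpSch.UnitOpen
import Groth.Agent.H87.SchDense
import Groth.Agent.Lib.RedPts.BC

/-!
# A connected algebraic group is generated by any non-empty open subset
-/

set_option autoImplicit false
set_option linter.style.haveILetI false
set_option backward.isDefEq.respectTransparency false
set_option backward.isDefEq.respectTransparency.types false
universe u

open CategoryTheory MonoidalCategory CartesianMonoidalCategory MonObj GrpObj AlgebraicGeometry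
open CategoryTheory.Limits

namespace Groth.Agent.Lib.CentralNhd

variable {k : Type u} [Field k] (G : Over (Spec (CommRingCat.of k))) [GrpObj G]

theorem surjective_shear :
    Surjective (lift (Groth.Agent.Lib.GrpSch.regularAction G).act (snd G G)).left := by
  let inv : G ⊗ G ⟶ G ⊗ G := lift (fst G G * (snd G G)⁻¹) (snd G G)
  have h : inv ≫ lift (Groth.Agent.Lib.GrpSch.regularAction G).act (snd G G) = 𝟙 _ := by
    refine CartesianMonoidalCategory.hom_ext _ _ ?_ ?_
    · rw [Category.assoc, lift_fst]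
      show lift (fst G G * (snd G G)⁻¹) (snd G G) ≫ μ[G] = _
      rw [← Hom.mul_def, inv_mul_cancel_right, Category.id_comp]
    · simp [inv]
  refine ⟨fun z => ⟨inv.left z, ?_⟩⟩
  rw [← Scheme.Hom.comp_apply, ← Over.comp_left, h]
  rfl

theorem dense_of_connected [ConnectedSpace G.left] (U : G.left.Opens) (hU : (U : Set G.left).Nonempty) :
    Dense (U : Set G.left) := by
  haveI : IsSeparated G.hom := Groth.Agent.H87.SchDense.isSeparated_over_field G
  haveI : QuasiSeparatedSpace G.left := quasiSeparatedSpace_of_quasiSeparated G.hom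
  have h := Groth.Agent.S3039.result k G G (Groth.Agent.Lib.GrpSch.regularAction G) (surjective_shear G) hU.some
  rw [PreconnectedSpace.connectedComponent_eq_univ] at h
  haveI : PreirreducibleSpace G.left := ⟨h⟩
  exact U.2.dense hU

theorem eq_of_left_mul_eq {T : Over (Spec (CommRingCat.of k))} [ConnectedSpace G.left] (Ω : G.left.Opens)
    (hΩ : (Ω : Set G.left).Nonempty) (c : T ⟶ G)
    (h : ∀ (T' : Over (Spec (CommRingCat.of k))) (f : T' ⟶ T) (z : T' ⟶ G),
      Set.range z.left ⊆ (Ω : Set G.left) → (f ≫ c) * z = z * (f ≫ c))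
    (z : T ⟶ G) : c * z = z * c := by
  let Ω' : Over (Spec (CommRingCat.of k)) := Over.mk (Ω.ι ≫ G.hom)
  let i : Ω' ⟶ G := Over.homMk Ω.ι
  let j : Ω' ⊗ Ω' ⟶ G := (fst Ω' Ω' ≫ i) * (snd Ω' Ω' ≫ i)
  have hj : j = (i ⊗ₘ i) ≫ μ[G] := by
    simp [j, Hom.mul_def]
  have hij : IsOpenImmersion (i ⊗ₘ i).left := by
    haveI : IsOpenImmersion i.left := inferInstanceAs (IsOpenImmersion Ω.ι)
    rw [Over.tensorHom_left]
    infer_instance
  haveI : Flat μ[G].left := Groth.Agent.Lib.GrpSch.act_left_of (P := @Flat)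
    (Groth.Agent.Lib.GrpSch.regularAction G) (inferInstanceAs (Flat G.hom))
  haveI : Flat j.left := by rw [hj, Over.comp_left]; infer_instance
  haveI : Surjective j.left := ⟨fun g => by
    obtain ⟨z, h1, h2, h3⟩ := Groth.Agent.S3015.result k G Ω Ω
      (dense_of_connected G Ω hΩ) (dense_of_connected G Ω hΩ) g
    have hz : z ∈ Set.range (i ⊗ₘ i).left := by
      rw [Over.tensorHom_left]
      exact (Set.ext_iff.mp (Scheme.Pullback.range_map ..) z).mpr
        ⟨(Scheme.Opens.range_ι Ω).ge h1, (Scheme.Opens.range_ι Ω).ge h2⟩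
    obtain ⟨w, rfl⟩ := hz
    exact ⟨w, by rw [hj]; exact h3⟩⟩
  let P : Over (Spec (CommRingCat.of k)) := Over.mk (pullback.fst z.left j.left ≫ T.hom)
  let f : P ⟶ T := Over.homMk (pullback.fst z.left j.left)
  let w : P ⟶ Ω' ⊗ Ω' := Over.homMk (pullback.snd z.left j.left) (by
    show _ = pullback.fst z.left j.left ≫ T.hom
    rw [← Over.w j, ← pullback.condition_assoc, Over.w z])
  have hfz : f ≫ z = w ≫ j := Over.OverMorphism.ext pullback.condition
  haveI : Epi f := by
    haveI : Epi f.left := Flat.epi_of_flat_of_surjective (pullback.fst z.left j.left)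
    exact Over.epi_of_epi_left f
  have hr : ∀ (v : P ⟶ Ω'), Set.range (v ≫ i).left ⊆ (Ω : Set G.left) := by
    rintro v _ ⟨q, rfl⟩
    exact (v.left q).2
  rw [← cancel_epi f, comp_mul, comp_mul, hfz, comp_mul, ← Category.assoc, ← Category.assoc]
  have h1 := h P f ((w ≫ fst Ω' Ω') ≫ i) (hr _)
  have h2 := h P f ((w ≫ snd Ω' Ω') ≫ i) (hr _)
  rw [← _root_.mul_assoc, h1, _root_.mul_assoc, h2, _root_.mul_assoc]

end Groth.Agent.Lib.CentralNhd
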