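import Mathlib.GroupTheory.FiniteAbelian.Basic
import Mathlib.Algebra.MonoidAlgebra.MapDomain
import Mathlib.RingTheory.Noetherian.Defs
import Mathlib.Algebra.MonoidAlgebra.Basic
import Mathlib.RingTheory.PrincipalIdealDomain
import Mathlib.Data.Nat.Prime.Basic

/-!
# Finitely generated abelian groups are residually finite, and the consequence for group algebras
-/

set_option autoImplicit false
universe u

namespace Groth.Agent.Lib.CentralNhd

variable {M : Type} [AddCommGroup M] [AddGroup.FG M]

theorem exists_finite_ne_zero {m : M} (hm : m ≠ 0) :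
    ∃ Q : Submodule ℤ M, Finite (M ⧸ Q) ∧ m ∉ Q := by
  haveI : Module.Finite ℤ M := Module.Finite.iff_addGroup_fg.mpr inferInstance
  haveI : IsNoetherian ℤ M := isNoetherian_of_isNoetherianRing_of_finite ℤ M
  obtain ⟨Q, hQ, hmax⟩ := set_has_maximal_iff_noetherian.mpr inferInstance {Q : Submodule ℤ M | m ∉ Q}
    ⟨⊥, by simpa using hm⟩
  refine ⟨Q, ?_, hQ⟩
  refine Module.finite_of_fg_torsion (M ⧸ Q) fun x => ?_
  induction x using Submodule.Quotient.induction_on with
  | H x =>
    by_contra hx
    have hfree : ∀ c : ℤ, c • x ∈ Q → c = 0 := by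
      intro c hc
      by_contra hc0
      exact hx ⟨⟨c, mem_nonZeroDivisors_iff_ne_zero.mpr hc0⟩, (Submodule.Quotient.mk_eq_zero Q).mpr hc⟩
    have hmem : ∀ c : ℤ, c ≠ 0 → ∃ q ∈ Q, ∃ d : ℤ, m = q + d • c • x := by
      intro c hc
      have : ¬ (Q ⊔ Submodule.span ℤ {c • x}) ∈ {Q : Submodule ℤ M | m ∉ Q} := fun h =>
        hmax _ h (lt_of_le_of_ne le_sup_left fun he => hc (hfree c (he ▸
          le_sup_right (a := Q) (Submodule.mem_span_singleton_self (c • x)))))
      obtain ⟨q, hq, y, hy, rfl⟩ := Submodule.mem_sup.mp (not_not.mp this)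
      obtain ⟨d, rfl⟩ := Submodule.mem_span_singleton.mp hy
      exact ⟨q, hq, d, rfl⟩
    obtain ⟨q, hq, k, hk⟩ := hmem 1 one_ne_zero
    have hk0 : k ≠ 0 := by
      rintro rfl
      exact hQ (by simpa [hk] using hq)
    obtain ⟨r, hr, d, hd⟩ := hmem (2 * k) (mul_ne_zero two_ne_zero hk0)
    rw [one_smul] at hk
    have h : (k - d * (2 * k)) • x = r - q := by
      rw [sub_smul, mul_smul, sub_eq_sub_iff_add_eq_add, add_comm (k • x), ← hk, hd]
    have h0 : k * (1 - 2 * d) = 0 := by
      have := hfree _ (h ▸ Q.sub_mem hr hq)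
      linarith
    rcases mul_eq_zero.mp h0 with h | h
    · exact hk0 h
    · omega

/-- A finite set of a finitely generated abelian group embeds into a finite quotient. -/
theorem exists_hom_injOn (T : Finset (Multiplicative M)) :
    ∃ (N : Type) (_ : CommGroup N) (_ : Finite N) (φ : Multiplicative M →* N),
      Set.InjOn φ (T : Set (Multiplicative M)) := by
  classical
  have key : ∀ p : {p : T × T // (p.1 : Multiplicative M) ≠ p.2}, ∃ Q : Submodule ℤ M,
      Finite (M ⧸ Q) ∧ (p.1.1.1.toAdd - p.1.2.1.toAdd) ∉ Q := fun p =>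
    exists_finite_ne_zero (sub_ne_zero.mpr fun h => p.2 (Multiplicative.toAdd.injective h))
  choose Q hfin hne using key
  haveI := hfin
  refine ⟨Multiplicative (∀ p, M ⧸ Q p), inferInstance, inferInstance,
    AddMonoidHom.toMultiplicative (Pi.addMonoidHom fun p => (Q p).mkQ.toAddMonoidHom), ?_⟩
  intro a ha b hb hab
  by_contra hne'
  refine hne ⟨(⟨a, ha⟩, ⟨b, hb⟩), hne'⟩ ?_
  have := congrFun (Multiplicative.ofAdd.injective hab) ⟨(⟨a, ha⟩, ⟨b, hb⟩), hne'⟩
  exact (Submodule.Quotient.eq _).mp this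

open MonoidAlgebra in
/-- An element of a group algebra killed in every finite quotient of the group is zero. -/
theorem eq_zero_of_forall_mapDomain {R : Type u} [CommRing R] (z : MonoidAlgebra R (Multiplicative M))
    (h : ∀ (N : Type) (_ : CommGroup N) (_ : Finite N) (φ : Multiplicative M →* N),
      MonoidAlgebra.mapDomainRingHom R φ z = 0) : z = 0 := by
  classical
  obtain ⟨N, iN, fN, φ, hφ⟩ := exists_hom_injOn z.coeff.support
  ext m
  by_cases hm : m ∈ z.coeff.support
  · have h0 := congr(MonoidAlgebra.coeff $(h N iN fN φ) (φ m))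
    change Finsupp.mapDomain φ z.coeff (φ m) = 0 at h0
    rw [Finsupp.mapDomain, Finsupp.sum_apply, Finsupp.sum, Finset.sum_eq_single m] at h0
    · simpa using h0
    · intro b hb hbm
      exact Finsupp.single_eq_of_ne fun e => hbm (hφ hb hm e.symm)
    · exact fun h' => absurd hm h'
  · simpa using Finsupp.notMem_support_iff.mp hm

end Groth.Agent.Lib.CentralNhd
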