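import Mathlib.AlgebraicGeometry.SpreadingOut
import Mathlib.AlgebraicGeometry.Noetherian
import Mathlib.AlgebraicGeometry.Morphisms.UniversallyClosed

/-!
# Two morphisms equal on the local rings over a point agree over a neighbourhood of the point
-/

set_option autoImplicit false
universe u

open CategoryTheory CategoryTheory.Limits AlgebraicGeometry

namespace Groth.Agent.Lib.CentralNhd

theorem exists_nhd_of_eq_fromSpecStalk {Z Y T : Scheme.{u}} [IsLocallyNoetherian Z] (π : Z ⟶ Y)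
    (hπ : IsClosedMap π) (a b : Z ⟶ T) (y : Y)
    (h : ∀ z, π z = y → Z.fromSpecStalk z ≫ a = Z.fromSpecStalk z ≫ b) :
    ∃ Ω : Y.Opens, y ∈ Ω ∧ (π ⁻¹ᵁ Ω).ι ≫ a = (π ⁻¹ᵁ Ω).ι ≫ b := by
  choose U hzU hU using fun z : {z : Z // π z = y} =>
    spread_out_unique_of_isGermInjective' (x := z.1) a b (h z.1 z.2)
  let V : Z.Opens := ⨆ z, U z
  let Ω : Y.Opens := ⟨(π '' (V : Set Z)ᶜ)ᶜ, (hπ _ V.2.isClosed_compl).isOpen_compl⟩
  have hle : π ⁻¹ᵁ Ω ≤ V := by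
    intro z hz
    by_contra hzV
    exact hz ⟨z, hzV, rfl⟩
  refine ⟨Ω, ?_, ?_⟩
  · rintro ⟨z, hzV, hz⟩
    exact hzV (TopologicalSpace.Opens.mem_iSup.mpr ⟨⟨z, hz⟩, hzU ⟨z, hz⟩⟩)
  · have hV : V.ι ≫ a = V.ι ≫ b := by
      refine Scheme.Cover.hom_ext (Scheme.Opens.iSupOpenCover U) _ _ fun z => ?_
      show Z.homOfLE (le_iSup U z) ≫ V.ι ≫ a = Z.homOfLE (le_iSup U z) ≫ V.ι ≫ b
      rw [Scheme.homOfLE_ι_assoc, Scheme.homOfLE_ι_assoc, hU z]
    rw [← Scheme.homOfLE_ι Z hle, Category.assoc, Category.assoc, hV]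

end Groth.Agent.Lib.CentralNhd
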