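import Groth.Agent.Lib.CentralNhd.LocalAct
import Groth.Agent.Lib.CentralNhd.Residual
import Groth.Agent.Lib.CentralNhd.Spread
import Groth.Agent.Lib.CentralNhd.Generated
import Groth.Agent.H87.Fibres

/-!
# Centrality passes from a point to its generizations, over a chart
-/

set_option autoImplicit false
set_option linter.style.haveILetI false
set_option backward.isDefEq.respectTransparency false
set_option backward.isDefEq.respectTransparency.types false
universe u

open CategoryTheory MonoidalCategory CartesianMonoidalCategory MonObj GrpObj AlgebraicGeometry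
open CategoryTheory.Limits
open Groth.Agent.Lib.RedPts Groth.Agent.H87 Groth.Agent.H87.Rigid

namespace Groth.Agent.Lib.CentralNhd

variable {S : Scheme.{u}} {H G : Over S} [GrpObj H] [GrpObj G]

/-- The image of `H` commutes with the points of `G` on schemes over `t`. -/
def CentralOn (u : H ⟶ G) {T : Scheme.{u}} (t : T ⟶ S) : Prop :=
  ∀ (Y : Over S) (_ : Y ⟶ Over.mk t) (gp : Y ⟶ G) (h : Y ⟶ H), gp * (h ≫ u) = (h ≫ u) * gp

/-- Two points in a separated scheme which agree after a jointly injective family of ring maps agree. -/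
theorem eq_of_forall_Spec_map {B : Scheme.{u}} {X : Over B} [IsSeparated X.hom] {R : CommRingCat.{u}}
    {t : Spec R ⟶ B} (a b : Over.mk t ⟶ X)
    (h : ∀ r : R, (∀ (D : CommRingCat.{u}) (π : R ⟶ D),
      Spec.map π ≫ a.left = Spec.map π ≫ b.left → π.hom r = 0) → r = 0) : a = b := by
  let ab : Spec R ⟶ pullback X.hom X.hom := pullback.lift a.left b.left ((Over.w a).trans (Over.w b).symm)
  let j := pullback.fst ab (pullback.diagonal X.hom)
  haveI : IsClosedImmersion j := inferInstance
  haveI : IsAffine (pullback ab (pullback.diagonal X.hom)) := isAffine_of_isAffineHom j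
  have hinj : Function.Injective j.appTop := by
    rw [injective_iff_map_eq_zero]
    intro z hz
    obtain ⟨r, rfl⟩ : ∃ r, (Scheme.ΓSpecIso R).inv r = z :=
      (ConcreteCategory.bijective_of_isIso (Scheme.ΓSpecIso R).inv).2 z
    suffices r = 0 by rw [this, map_zero]
    refine h r fun D π hπ => ?_
    let l : Spec D ⟶ pullback ab (pullback.diagonal X.hom) :=
      pullback.lift (Spec.map π) (Spec.map π ≫ a.left) (by
        refine pullback.hom_ext ?_ ?_ <;> simp [ab, hπ])
    have hl : l ≫ j = Spec.map π := pullback.lift_fst _ _ _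
    have h0 : (Spec.map π).appTop ((Scheme.ΓSpecIso R).inv r) = 0 := by
      rw [← hl, Scheme.Hom.comp_appTop, CommRingCat.comp_apply, hz, map_zero]
    rw [← CommRingCat.comp_apply, ← Scheme.ΓSpecIso_inv_naturality, CommRingCat.comp_apply] at h0
    exact (map_eq_zero_iff _ (ConcreteCategory.bijective_of_isIso (Scheme.ΓSpecIso D).inv).1).mp h0
  haveI : IsIso j := IsClosedImmersion.isIso_of_injective_of_isAffine hinj
  apply Over.OverMorphism.ext
  have hc := pullback.condition (f := ab) (g := pullback.diagonal X.hom)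
  have h1 := congr($hc ≫ pullback.fst X.hom X.hom)
  have h2 := congr($hc ≫ pullback.snd X.hom X.hom)
  simp only [ab, Category.assoc, pullback.lift_fst, pullback.lift_snd, pullback.diagonal_fst,
    pullback.diagonal_snd, Category.comp_id] at h1 h2
  exact (cancel_epi j).mp (h1.trans h2.symm)

variable {A : CommRingCat.{u}} {g : Spec A ⟶ S} {M : Type} [AddCommGroup M]
  (e : Grp.mk (Red.bc g H) ≅ Grp.mk (Red.DS (Spec A) M)) (u : H ⟶ G) [IsMonHom u]

theorem actPt_conj_iff {T : Over (Spec A)} (χ : Multiplicative M →* Γ(T.left, ⊤)) (y : T ⟶ Red.bc g G) :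
    actPt e (Fibres.conjAction u) χ y = y ↔
      (pt e χ ≫ u) * BC.down g y = BC.down g y * (pt e χ ≫ u) := by
  rw [← BC.down_injective.eq_iff, actPt, BC.down_up, Fibres.conjAction_act, mul_inv_eq_iff_eq_mul]

variable {K : Type u} [Field K] (k : Spec (CommRingCat.of K) ⟶ Spec A)

/-- The point of the fibre attached to a character. -/
noncomputable def charPt {T : Over (Spec (CommRingCat.of K))} (χ : Multiplicative M →* Γ(T.left, ⊤)) :
    T ⟶ Red.bc k (Red.bc g G) :=
  BC.up k (BC.up g (pt e (T := (Over.map k).obj T) χ ≫ u))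

omit [IsMonHom u] in
theorem comp_charPt {T T' : Over (Spec (CommRingCat.of K))} (f : T' ⟶ T)
    (χ : Multiplicative M →* Γ(T.left, ⊤)) :
    f ≫ charPt e u k χ = charPt e u k ((RingHom.toMonoidHom f.left.appTop.hom).comp χ) := by
  apply BC.down_injective
  apply BC.down_injective
  rw [BC.down_comp, BC.down_comp, charPt, charPt, BC.down_up, BC.down_up, BC.down_up, BC.down_up,
    ← Category.assoc, map_pt]
  rfl

omit [IsMonHom u] in
theorem commute_iff {T : Over (Spec (CommRingCat.of K))} (χ : Multiplicative M →* Γ(T.left, ⊤))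
    (z : T ⟶ Red.bc k (Red.bc g G)) :
    charPt e u k χ * z = z * charPt e u k χ ↔
      (pt e (T := (Over.map k).obj T) χ ≫ u) * BC.down g (BC.down k z) =
        BC.down g (BC.down k z) * (pt e (T := (Over.map k).obj T) χ ≫ u) := by
  rw [← BC.down_injective.eq_iff, ← BC.down_injective.eq_iff]
  simp only [BC.down_mul, charPt, BC.down_up]

variable [LocallyOfFiniteType G.hom] [AddGroup.FG M] (s' : PrimeSpectrum A)
  (hs' : CentralOn u (Spec.map (CommRingCat.ofHom (algebraMap A s'.asIdeal.ResidueField)) ≫ g))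
  (hgen : k (IsLocalRing.closedPoint K) ⤳ s')
  [ConnectedSpace (Red.bc k (Red.bc g G)).left]

include hs' hgen in
set_option maxHeartbeats 1600000 in
theorem commute_of_finite {N : Type} [CommGroup N] [Finite N] (φN : Multiplicative M →* N)
    {T : Over (Spec (CommRingCat.of K))} (ch : N →* Γ(T.left, ⊤)) (z : T ⟶ Red.bc k (Red.bc g G)) :
    charPt e u k (ch.comp φN) * z = z * charPt e u k (ch.comp φN) := by
  classical
  let GK := Red.bc k (Red.bc g G)
  let Yb := Red.bc g G
  let R : CommRingCat.{u} := CommRingCat.of (MonoidAlgebra K N)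
  let inc : CommRingCat.of K ⟶ R := CommRingCat.ofHom MonoidAlgebra.singleOneRingHom
  haveI : IsFinite (Spec.map inc) := by
    rw [IsFinite.SpecMap_iff]
    haveI : Module.Finite K (MonoidAlgebra K N) := Module.Finite.equiv (MonoidAlgebra.coeffLinearEquiv K).symm
    exact RingHom.finite_algebraMap.mpr ‹_›
  let π := pullback.fst GK.hom (Spec.map inc)
  let T₁ : Over (Spec (CommRingCat.of K)) := Over.mk (π ≫ GK.hom)
  let y₁ : T₁ ⟶ GK := Over.homMk π
  let ch₁ : N →* Γ(T₁.left, ⊤) := (RingHom.toMonoidHom (pullback.snd GK.hom (Spec.map inc)).appTop.hom).comp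
    (((Scheme.ΓSpecIso R).inv.hom : R →* Γ(Spec R, ⊤)).comp (MonoidAlgebra.of K N))
  let c₁ := charPt e u k (ch₁.comp φN)
  haveI : LocallyOfFiniteType GK.hom := by
    haveI : LocallyOfFiniteType (Red.bc g G).hom := inferInstanceAs (LocallyOfFiniteType (pullback.snd G.hom g))
    exact inferInstanceAs (LocallyOfFiniteType (pullback.snd (Red.bc g G).hom k))
  haveI : IsLocallyNoetherian GK.left := LocallyOfFiniteType.isLocallyNoetherian GK.hom
  haveI : IsLocallyNoetherian T₁.left := LocallyOfFiniteType.isLocallyNoetherian π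
  let eK : GK.left := η[GK].left (IsLocalRing.closedPoint K)
  let x : Yb.left := η[Yb].left s'
  have hx : Yb.hom x = s' := by
    rw [← Scheme.Hom.comp_apply, show η[Yb].left ≫ Yb.hom = 𝟙 _ from Over.w η[Yb]]
    rfl
  have hη : η[GK].left ≫ pullback.fst Yb.hom k = k ≫ η[Yb].left := by
    have h := congr(($(BC.down_one (f := k) (X := 𝟙_ (Over (Spec (CommRingCat.of K)))) (Y := Yb))).left)
    rw [BC.down_left, Hom.one_def, Hom.one_def, Over.comp_left, Over.comp_left, Over.toUnit_left,
      Over.toUnit_left] at h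
    erw [Category.id_comp] at h
    exact h
  have heK : (pullback.fst Yb.hom k) eK ⤳ x := by
    have := congr($hη (IsLocalRing.closedPoint K))
    rw [Scheme.Hom.comp_apply, Scheme.Hom.comp_apply] at this
    rw [show (pullback.fst Yb.hom k) eK = η[Yb].left (k (IsLocalRing.closedPoint K)) from this]
    exact hgen.map η[Yb].left.continuous
  -- step 1: commutation near the unit
  have hstalk : ∀ p : T₁.left, π p = eK →
      T₁.left.fromSpecStalk p ≫ (c₁ * y₁).left = T₁.left.fromSpecStalk p ≫ (y₁ * c₁).left := by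
    intro p hp
    let T' : Over (Spec (CommRingCat.of K)) := Over.mk (T₁.left.fromSpecStalk p ≫ T₁.hom)
    let f : T' ⟶ T₁ := Over.homMk (T₁.left.fromSpecStalk p)
    suffices f ≫ (c₁ * y₁) = f ≫ (y₁ * c₁) from congr(($this).left)
    rw [comp_mul, comp_mul, comp_charPt, commute_iff]
    let y : (Over.map k).obj T' ⟶ Yb := BC.down k (f ≫ y₁)
    have hr : ∀ r, y.left r ⤳ x := by
      intro r
      refine Specializes.trans ?_ heK
      have : (T₁.left.fromSpecStalk p r) ⤳ p := by
        have hmem : T₁.left.fromSpecStalk p r ∈ Set.range (T₁.left.fromSpecStalk p) := ⟨r, rfl⟩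
        rwa [Scheme.range_fromSpecStalk] at hmem
      exact hp ▸ this.map ((π ≫ pullback.fst Yb.hom k).continuous)
    obtain ⟨φ, hφ⟩ := exists_fac_fromSpecStalk x y.left hr
    refine (actPt_conj_iff e u _ y).mp ?_
    refine trivial_stalk e (Fibres.conjAction u) φN x ?_ φ ((RingHom.toMonoidHom f.left.appTop.hom).comp ch₁) y hφ.symm
    rw [hx]
    intro D j t ht χ v
    rw [actPt_conj_iff]
    refine (hs' _ (Over.homMk (Spec.map (CommRingCat.ofHom j)) ?_) _ _).symm
    show _ = t ≫ g
    rw [ht, CommRingCat.ofHom_comp, Spec.map_comp, Category.assoc]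
    rfl
  obtain ⟨Ω, hΩe, hΩ⟩ := exists_nhd_of_eq_fromSpecStalk π π.isClosedMap _ _ eK hstalk
  -- step 2: commutation with points in the neighbourhood
  haveI : ConnectedSpace GK.left := ‹_›
  refine eq_of_left_mul_eq GK Ω ⟨eK, hΩe⟩ _ (fun T' f w hw => ?_) z
  rw [comp_charPt]
  let θ : K →+* Γ(T'.left, ⊤) := T'.hom.appTop.hom.comp (Scheme.ΓSpecIso (CommRingCat.of K)).inv.hom
  let ψ : R ⟶ Γ(T'.left, ⊤) := CommRingCat.ofHom
    (MonoidAlgebra.liftNCRingHom θ ((RingHom.toMonoidHom f.left.appTop.hom).comp ch) fun _ _ => Commute.all _ _)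
  let m₂ : T'.left ⟶ Spec R := T'.left.toSpecΓ ≫ Spec.map ψ
  have hm₂ : m₂ ≫ Spec.map inc = w.left ≫ GK.hom := by
    rw [Over.w w, Category.assoc, ← Spec.map_comp]
    have : inc ≫ ψ = (Scheme.ΓSpecIso (CommRingCat.of K)).inv ≫ T'.hom.appTop := by
      refine CommRingCat.hom_ext (RingHom.ext fun b => ?_)
      show (MonoidAlgebra.liftNCRingHom θ _ fun _ _ => Commute.all _ _) (MonoidAlgebra.single 1 b) = _
      rw [MonoidAlgebra.liftNCRingHom_single, map_one, _root_.mul_one]
      rfl
    rw [this, Spec.map_comp, ← Category.assoc, ← Scheme.toSpecΓ_naturality, Category.assoc]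
    simp
  let m : T' ⟶ T₁ := Over.homMk (pullback.lift w.left m₂ hm₂.symm)
    (by rw [← Over.w w]; exact pullback.lift_fst_assoc _ _ _ _)
  have hmy : m ≫ y₁ = w := Over.OverMorphism.ext (pullback.lift_fst _ _ _)
  have hmc : (RingHom.toMonoidHom m.left.appTop.hom).comp ch₁ = (RingHom.toMonoidHom f.left.appTop.hom).comp ch := by
    refine MonoidHom.ext fun n => ?_
    show m.left.appTop ((pullback.snd GK.hom (Spec.map inc)).appTop
      ((Scheme.ΓSpecIso R).inv (MonoidAlgebra.single n 1))) = _
    show ((pullback.snd GK.hom (Spec.map inc)).appTop ≫ m.left.appTop) ((Scheme.ΓSpecIso R).inv _) = _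
    rw [← Scheme.Hom.comp_appTop]
    rw [show m.left ≫ pullback.snd GK.hom (Spec.map inc) = m₂ from pullback.lift_snd _ _ _,
      Scheme.Hom.comp_appTop, CommRingCat.comp_apply, Scheme.toSpecΓ_appTop,
      ← CommRingCat.comp_apply (Scheme.ΓSpecIso R).inv, ← Scheme.ΓSpecIso_inv_naturality, CommRingCat.comp_apply,
      Iso.inv_hom_id_apply]
    show (MonoidAlgebra.liftNCRingHom θ _ fun _ _ => Commute.all _ _) (MonoidAlgebra.single n 1) = _
    rw [MonoidAlgebra.liftNCRingHom_single, map_one, _root_.one_mul]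
  have hfac : m.left ≫ (c₁ * y₁).left = m.left ≫ (y₁ * c₁).left := by
    have hr : Set.range m.left ⊆ Set.range (π ⁻¹ᵁ Ω).ι := by
      rintro _ ⟨q, rfl⟩
      rw [Scheme.Opens.range_ι]
      show π (m.left q) ∈ Ω
      show (m.left ≫ π) q ∈ Ω
      rw [show m.left ≫ π = w.left from pullback.lift_fst _ _ _]
      exact hw ⟨q, rfl⟩
    rw [← IsOpenImmersion.lift_fac _ _ hr, Category.assoc, Category.assoc, hΩ]
  have hc : m ≫ (c₁ * y₁) = m ≫ (y₁ * c₁) := Over.OverMorphism.ext hfac
  rw [comp_mul, comp_mul, comp_charPt, hmy] at hc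
  convert hc using 3 <;> rw [← MonoidHom.comp_assoc, ← MonoidHom.comp_assoc, hmc]

include hs' hgen in
set_option maxHeartbeats 800000 in
theorem commute_all {T : Over (Spec (CommRingCat.of K))} (χ : Multiplicative M →* Γ(T.left, ⊤))
    (z : T ⟶ Red.bc k (Red.bc g G)) :
    charPt e u k χ * z = z * charPt e u k χ := by
  classical
  let GK := Red.bc k (Red.bc g G)
  haveI : IsSeparated GK.hom := SchDense.isSeparated_over_field GK
  have loc : ∀ p : T.left, ∃ O : T.left.Opens, p ∈ O ∧
      O.ι ≫ (charPt e u k χ * z).left = O.ι ≫ (z * charPt e u k χ).left := by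
    intro p
    obtain ⟨W, hW, hpW, -⟩ := exists_isAffineOpen_mem_and_subset (X := GK.left) (x := z.left p) (U := ⊤) trivial
    obtain ⟨O, hO, hpO, hOW⟩ := exists_isAffineOpen_mem_and_subset (X := T.left) (x := p) (U := z.left ⁻¹ᵁ W) hpW
    refine ⟨O, hpO, ?_⟩
    let B : CommRingCat.{u} := Γ(GK.left, W)
    let R : CommRingCat.{u} := CommRingCat.of (MonoidAlgebra B (Multiplicative M))
    let inc : B ⟶ R := CommRingCat.ofHom MonoidAlgebra.singleOneRingHom
    let t₂ : Spec R ⟶ Spec (CommRingCat.of K) := Spec.map inc ≫ hW.fromSpec ≫ GK.hom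
    let z₂ : Over.mk t₂ ⟶ GK := Over.homMk (Spec.map inc ≫ hW.fromSpec) (Category.assoc _ _ _)
    let χ₂ : Multiplicative M →* Γ(Spec R, ⊤) :=
      ((Scheme.ΓSpecIso R).inv.hom : R →* Γ(Spec R, ⊤)).comp (MonoidAlgebra.of B (Multiplicative M))
    have huniv : charPt e u k (T := Over.mk t₂) χ₂ * z₂ = z₂ * charPt e u k χ₂ := by
      refine eq_of_forall_Spec_map _ _ fun r hr => eq_zero_of_forall_mapDomain r fun N _ _ φ => ?_
      let D : CommRingCat.{u} := CommRingCat.of (MonoidAlgebra B N)
      let π : R ⟶ D := CommRingCat.ofHom (MonoidAlgebra.mapDomainRingHom B φ)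
      refine hr D π ?_
      let T' : Over (Spec (CommRingCat.of K)) := Over.mk (Spec.map π ≫ t₂)
      let f : T' ⟶ Over.mk t₂ := Over.homMk (Spec.map π)
      suffices f ≫ (charPt e u k χ₂ * z₂) = f ≫ (z₂ * charPt e u k χ₂) from congr(($this).left)
      rw [comp_mul, comp_mul, comp_charPt]
      have hχ : (RingHom.toMonoidHom f.left.appTop.hom).comp χ₂ =
          (((Scheme.ΓSpecIso D).inv.hom : D →* Γ(Spec D, ⊤)).comp (MonoidAlgebra.of B N)).comp φ := by
        refine MonoidHom.ext fun n => ?_
        show (Spec.map π).appTop ((Scheme.ΓSpecIso R).inv (MonoidAlgebra.single n 1)) = _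
        rw [← CommRingCat.comp_apply, ← Scheme.ΓSpecIso_inv_naturality, CommRingCat.comp_apply]
        refine congrArg (fun v => (Scheme.ΓSpecIso D).inv v) ?_
        show MonoidAlgebra.mapDomain φ (MonoidAlgebra.single n (1 : B)) = MonoidAlgebra.single (φ n) 1
        exact MonoidAlgebra.mapDomain_single ..
      rw [hχ]
      exact commute_of_finite e u k s' hs' hgen φ _ _
    let C : CommRingCat.{u} := Γ(T.left, O)
    let io : Over.mk (hO.fromSpec ≫ T.hom) ⟶ T := Over.homMk hO.fromSpec
    let ψ : B ⟶ C := z.left.appLE W O hOW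
    let chC : Multiplicative M →* C :=
      (RingHom.toMonoidHom (Scheme.ΓSpecIso C).hom.hom).comp ((RingHom.toMonoidHom hO.fromSpec.appTop.hom).comp χ)
    let l : R ⟶ C := CommRingCat.ofHom (MonoidAlgebra.liftNCRingHom ψ.hom chC fun _ _ => Commute.all _ _)
    have hl : inc ≫ l = ψ := by
      refine CommRingCat.hom_ext (RingHom.ext fun b => ?_)
      show (MonoidAlgebra.liftNCRingHom ψ.hom chC fun _ _ => Commute.all _ _) (MonoidAlgebra.single 1 b) = _
      rw [MonoidAlgebra.liftNCRingHom_single, map_one, _root_.mul_one]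
    have hz : Spec.map ψ ≫ hW.fromSpec = hO.fromSpec ≫ z.left := IsAffineOpen.SpecMap_appLE_fromSpec _ hW hO hOW
    let f : Over.mk (hO.fromSpec ≫ T.hom) ⟶ Over.mk t₂ := Over.homMk (Spec.map l) (by
      show Spec.map l ≫ Spec.map inc ≫ hW.fromSpec ≫ GK.hom = hO.fromSpec ≫ T.hom
      rw [← Category.assoc, ← Spec.map_comp, hl, ← Category.assoc, hz, Category.assoc, Over.w])
    have hfz : f ≫ z₂ = io ≫ z := by
      apply Over.OverMorphism.ext
      show Spec.map l ≫ Spec.map inc ≫ hW.fromSpec = hO.fromSpec ≫ z.left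
      rw [← Category.assoc, ← Spec.map_comp, hl, hz]
    have hfχ : (RingHom.toMonoidHom f.left.appTop.hom).comp χ₂ = (RingHom.toMonoidHom io.left.appTop.hom).comp χ := by
      refine MonoidHom.ext fun n => ?_
      show (Spec.map l).appTop ((Scheme.ΓSpecIso R).inv (MonoidAlgebra.single n 1)) = _
      rw [← CommRingCat.comp_apply, ← Scheme.ΓSpecIso_inv_naturality, CommRingCat.comp_apply]
      show (Scheme.ΓSpecIso C).inv ((MonoidAlgebra.liftNCRingHom ψ.hom chC fun _ _ => Commute.all _ _)
        (MonoidAlgebra.single n 1)) = _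
      rw [MonoidAlgebra.liftNCRingHom_single, map_one, _root_.one_mul]
      simp [chC, io]
      rfl
    have h := congrArg (f ≫ ·) huniv
    simp only [comp_mul, comp_charPt, hfz, hfχ] at h
    rw [← comp_charPt, ← comp_mul, ← comp_mul] at h
    have h' := congr(($h).left)
    rw [← cancel_epi hO.isoSpec.inv]
    exact (Category.assoc _ _ _).symm.trans (h'.trans (Category.assoc _ _ _))
  choose O hpO hO using loc
  apply Over.OverMorphism.ext
  exact Scheme.Cover.hom_ext (T.left.openCoverOfIsOpenCover O (TopologicalSpace.IsOpenCover.mk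
    (eq_top_iff.mpr fun q _ => TopologicalSpace.Opens.mem_iSup.mpr ⟨q, hpO q⟩))) _ _ hO

include e hs' hgen in
/-- Centrality at `s'` gives centrality at its generizations. -/
theorem centralOn_of_specializes : CentralOn u (k ≫ g) := by
  intro Y p gp h
  let T : Over (Spec (CommRingCat.of K)) := Over.mk p.left
  let φ : (Over.map g).obj ((Over.map k).obj T) ≅ Y := Over.isoMk (Iso.refl _)
    ((Category.id_comp _).trans ((Over.w p).symm.trans (Category.assoc _ _ _).symm))
  obtain ⟨χ, hχ⟩ := pt_surjective e (T := (Over.map k).obj T) (φ.hom ≫ h)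
  have := (commute_iff e u k χ (BC.up k (BC.up g (φ.hom ≫ gp)))).mp (commute_all e u k s' hs' hgen χ _)
  rw [BC.down_up, BC.down_up, hχ, Category.assoc] at this
  rw [← cancel_epi φ.hom, comp_mul, comp_mul]
  exact this.symm

end Groth.Agent.Lib.CentralNhd
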