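import Groth.Agent.H87.CoactTrivial
import Mathlib.RingTheory.Nakayama
import Mathlib.RingTheory.LocalRing.MaximalIdeal.Basic
import Mathlib.RingTheory.Adjoin.Basic
import Mathlib.RingTheory.FiniteType

/-!
# A coaction on an essentially finitely generated local algebra which is trivial on the closed fibre
-/

set_option autoImplicit false
universe u v

namespace Groth.Agent.Lib.CentralNhd

open MonoidAlgebra

variable {A O : Type u} [CommRing A] [CommRing O] [IsLocalRing O] [Algebra A O] {N : Type v} [CommGroup N]

/-- A coaction of a diagonalisable group on a local algebra, essentially of finite type, is trivial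
if it is trivial modulo the ideal `p` of the base and `p` lies in the maximal ideal. -/
theorem eq_inc_of_local (ρ : O →+* MonoidAlgebra O N)
    (hε : ∀ b, ((ρ b).coeff.sum fun _ r => r) = b)
    (hco : ∀ b m, ρ ((ρ b).coeff m) = single m ((ρ b).coeff m))
    (hbase : ∀ a : A, ρ (algebraMap A O a) = single 1 (algebraMap A O a))
    (p : Ideal A) (hp : p.map (algebraMap A O) ≤ IsLocalRing.maximalIdeal O)
    (F : Finset O)
    (hF : ∀ x : O, ∃ s ∈ Algebra.adjoin A (F : Set O), IsUnit s ∧ x * s ∈ Algebra.adjoin A (F : Set O))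
    (hmod : ∀ b m, m ≠ 1 → (ρ b).coeff m ∈ p.map (algebraMap A O)) :
    ρ = singleOneRingHom := by
  classical
  let T : Finset (O × N) := F.biUnion fun x => ((ρ x).coeff.support.erase 1).image fun m => (x, m)
  let c : O × N → O := fun y => (ρ y.1).coeff y.2
  let I : Ideal O := Ideal.span (c '' (T : Set (O × N)))
  have hne : ∀ y ∈ T, y.2 ≠ 1 := by
    intro y hy
    simp only [T, Finset.mem_biUnion, Finset.mem_image, Finset.mem_erase] at hy
    obtain ⟨x, -, m, ⟨hm, -⟩, rfl⟩ := hy
    exact hm
  let q := MonoidAlgebra.mapRingHom N (Ideal.Quotient.mk I)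
  have key : ∀ z : MonoidAlgebra O N, (∀ n, n ≠ 1 → z.coeff n ∈ I) →
      q z = single 1 (Ideal.Quotient.mk I (z.coeff 1)) := by
    intro z hz
    ext n
    rw [coeff_mapRingHom, coeff_single, Finsupp.single_apply]
    split_ifs with h
    · rw [h]
    · exact Ideal.Quotient.eq_zero_iff_mem.mpr (hz n (Ne.symm h))
  have hadj : ∀ b ∈ Algebra.adjoin A (F : Set O), ∀ m, m ≠ 1 → (ρ b).coeff m ∈ I := by
    intro b hb
    induction hb using Algebra.adjoin_induction with
    | mem x hx =>
      intro m hm
      by_cases h0 : (ρ x).coeff m = 0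
      · rw [h0]; exact zero_mem _
      · refine Ideal.subset_span ⟨(x, m), ?_, rfl⟩
        simp only [T, Finset.coe_biUnion, Set.mem_iUnion, Finset.coe_image, Set.mem_image]
        exact ⟨x, hx, m, Finset.mem_erase.mpr ⟨hm, Finsupp.mem_support_iff.mpr h0⟩, rfl⟩
    | algebraMap r =>
      intro m hm
      rw [hbase, coeff_single, Finsupp.single_eq_of_ne hm]; exact zero_mem _
    | add x y _ _ hx hy =>
      intro m hm
      rw [map_add, coeff_add, Finsupp.add_apply]; exact add_mem (hx m hm) (hy m hm)
    | mul x y _ _ hx hy =>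
      intro m hm
      rw [map_mul, ← Ideal.Quotient.eq_zero_iff_mem, ← coeff_mapRingHom (Ideal.Quotient.mk I), map_mul,
        show MonoidAlgebra.mapRingHom N (Ideal.Quotient.mk I) = q from rfl, key _ hx, key _ hy,
        single_mul_single, coeff_single, _root_.mul_one, Finsupp.single_eq_of_ne hm]
  -- extend to the fractions
  have hall : ∀ b m, m ≠ 1 → (ρ b).coeff m ∈ I := by
    intro b m hm
    obtain ⟨s, hs, hsu, hbs⟩ := hF b
    have hu : IsUnit (Ideal.Quotient.mk I ((ρ s).coeff 1)) := by
      obtain ⟨t, ht⟩ := isUnit_iff_exists_inv.mp hsu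
      have h1 := congrArg q (congrArg ρ ht)
      rw [map_one, map_one, map_mul, map_mul, key _ (hadj s hs)] at h1
      have h2 := congr(MonoidAlgebra.coeff $h1 1)
      rw [coeff_single_one_mul, MonoidAlgebra.one_def, coeff_single, Finsupp.single_eq_same] at h2
      exact IsUnit.of_mul_eq_one _ h2
    have h := congr(MonoidAlgebra.coeff $(key _ (hadj _ hbs)) m)
    rw [map_mul ρ, map_mul q, key _ (hadj s hs), coeff_mul_single_one, coeff_mapRingHom, coeff_single,
      Finsupp.single_eq_of_ne hm] at h
    exact Ideal.Quotient.eq_zero_iff_mem.mp (hu.mul_left_eq_zero.mp h)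
  -- Nakayama
  have hle : I ≤ IsLocalRing.maximalIdeal O • I := by
    refine Ideal.span_le.mpr ?_
    rintro _ ⟨y, hy, rfl⟩
    have h2 : ∀ z ∈ p.map (algebraMap A O), ∀ r, (ρ (r * z)).coeff y.2 ∈ IsLocalRing.maximalIdeal O * I := by
      intro z hz
      induction hz using Submodule.span_induction with
      | mem z hz =>
        obtain ⟨a, ha, rfl⟩ := hz
        intro r
        rw [map_mul, hbase, coeff_mul_single_one, Ideal.mul_comm]
        exact Ideal.mul_mem_mul (hall r y.2 (hne y hy)) (hp (Ideal.mem_map_of_mem _ ha))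
      | zero => intro r; simp
      | add z w _ _ hz hw =>
        intro r
        rw [_root_.mul_add, map_add, coeff_add, Finsupp.add_apply]
        exact add_mem (hz r) (hw r)
      | smul k z _ hz => intro r; rw [smul_eq_mul, ← _root_.mul_assoc]; exact hz (r * k)
    have := h2 _ (hmod y.1 y.2 (hne y hy)) 1
    rw [_root_.one_mul, hco, coeff_single, Finsupp.single_eq_same] at this
    exact this
  have hbot : I = ⊥ := Submodule.eq_bot_of_le_smul_of_le_jacobson_bot _ I
    (Submodule.fg_span (T.finite_toSet.image _)) hle (IsLocalRing.maximalIdeal_le_jacobson _)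
  refine RingHom.ext fun b => ?_
  rw [singleOneRingHom_apply]
  have h0 : ∀ m, m ≠ 1 → (ρ b).coeff m = 0 := fun m hm => by simpa [hbot] using hall b m hm
  have heq : ρ b = single 1 ((ρ b).coeff 1) := by
    ext m
    rw [coeff_single, Finsupp.single_apply]
    split_ifs with h
    · rw [h]
    · exact h0 m (Ne.symm h)
  have h1 := hε b
  rw [heq, coeff_single, Finsupp.sum_single_index rfl] at h1
  rwa [h1] at heq

end Groth.Agent.Lib.CentralNhd
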