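import Groth.Agent.H87.Rigid
import Groth.Agent.Lib.CentralNhd.LocalCoact
import Mathlib.AlgebraicGeometry.Morphisms.FiniteType
import Mathlib.RingTheory.LocalRing.ResidueField.Ideal
import Mathlib.RingTheory.Ideal.GoingUp

/-!
# An action of a finite diagonalisable group trivial on a fibre is trivial on the local ring
at a point of that fibre
-/

set_option autoImplicit false
set_option linter.style.haveILetI false
set_option backward.isDefEq.respectTransparency false
set_option backward.isDefEq.respectTransparency.types false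
universe u

open CategoryTheory MonoidalCategory CartesianMonoidalCategory MonObj GrpObj AlgebraicGeometry
open CategoryTheory.Limits
open Groth.Agent.Lib.RedPts Groth.Agent.H87 Groth.Agent.H87.Rigid

namespace Groth.Agent.Lib.CentralNhd

/-- A morphism from an affine scheme all of whose points generalise `x` factors through the local ring. -/
theorem exists_fac_fromSpecStalk {Y : Scheme.{u}} (x : Y) {R : CommRingCat.{u}} (f : Spec R ⟶ Y)
    (h : ∀ r, f r ⤳ x) : ∃ φ : Y.presheaf.stalk x ⟶ R, Spec.map φ ≫ Y.fromSpecStalk x = f := by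
  obtain ⟨W, hW, hxW, -⟩ := exists_isAffineOpen_mem_and_subset (x := x) (U := ⊤) trivial
  have hr : Set.range f ⊆ Set.range hW.fromSpec := by
    rintro _ ⟨r, rfl⟩
    rw [hW.range_fromSpec]
    exact (h r).mem_open W.2 hxW
  obtain ⟨ψ, hψ⟩ := Spec.map_surjective (IsOpenImmersion.lift hW.fromSpec f hr)
  have hf : Spec.map ψ ≫ hW.fromSpec = f := by rw [hψ, IsOpenImmersion.lift_fac]
  letI : Algebra Γ(Y, W) (Y.presheaf.stalk x) := (Y.presheaf.germ W x hxW).hom.toAlgebra
  haveI : IsLocalization.AtPrime (Y.presheaf.stalk x) (hW.primeIdealOf ⟨x, hxW⟩).asIdeal :=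
    hW.isLocalization_stalk ⟨x, hxW⟩
  have hu : ∀ b : (hW.primeIdealOf ⟨x, hxW⟩).asIdeal.primeCompl, IsUnit (ψ.hom b) := by
    rintro ⟨b, hb⟩
    by_contra hne
    obtain ⟨m, hm, hbm⟩ := exists_max_ideal_of_mem_nonunits (mem_nonunits_iff.mpr hne)
    let r : Spec R := ⟨m, hm.isPrime⟩
    have hsp : Spec.map ψ r ⤳ hW.primeIdealOf ⟨x, hxW⟩ := by
      rw [← hW.fromSpec.isOpenEmbedding.isInducing.specializes_iff, hW.fromSpec_primeIdealOf,
        ← Scheme.Hom.comp_apply, hf]
      exact h r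
    exact hb ((PrimeSpectrum.le_iff_specializes _ _).mpr hsp hbm)
  have key : ∀ b, (IsLocalization.lift hu : Y.presheaf.stalk x →+* R) (algebraMap _ _ b) = ψ.hom b :=
    fun b => IsLocalization.lift_eq hu b
  let l : Y.presheaf.stalk x →+* R := IsLocalization.lift hu
  refine ⟨CommRingCat.ofHom l, ?_⟩
  rw [← hW.fromSpecStalk_eq_fromSpecStalk hxW, IsAffineOpen.fromSpecStalk, ← Category.assoc,
    ← Spec.map_comp]
  refine Eq.trans ?_ hf
  congr 2
  ext b
  exact key b

variable {S : Scheme.{u}} {A : CommRingCat.{u}} {g : Spec A ⟶ S} {M : Type} [AddCommGroup M]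
  {G X : Over S} [GrpObj G] (e : Grp.mk (Red.bc g G) ≅ Grp.mk (Red.DS (Spec A) M)) (a : AlgGrp.Action G X)
  {N : Type} [CommGroup N] [Finite N] (φN : Multiplicative M →* N)

set_option maxHeartbeats 800000 in
include e a in
/-- An action of a finite diagonalisable group which is trivial on the fibre through `x` is trivial
on the spectrum of the local ring at `x`. -/
theorem trivial_stalk [LocallyOfFiniteType X.hom] (x : (Red.bc g X).left)
    (htriv : ∀ (D : CommRingCat.{u}) (j : ((Red.bc g X).hom x).asIdeal.ResidueField →+* D)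
      (t : Spec D ⟶ Spec A), t = Spec.map (CommRingCat.ofHom (j.comp (algebraMap A _))) →
      ∀ (χ : Multiplicative M →* Γ(Spec D, ⊤)) (y : Over.mk t ⟶ Red.bc g X), actPt e a χ y = y)
    {D : CommRingCat.{u}} {t : Spec D ⟶ Spec A} (φ : (Red.bc g X).left.presheaf.stalk x ⟶ D)
    (ch : N →* Γ(Spec D, ⊤)) (y : Over.mk t ⟶ Red.bc g X)
    (hy : y.left = Spec.map φ ≫ (Red.bc g X).left.fromSpecStalk x) :
    actPt e a (ch.comp φN) y = y := by
  classical
  let O : CommRingCat.{u} := (Red.bc g X).left.presheaf.stalk x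
  let w : Spec O ⟶ (Red.bc g X).left := (Red.bc g X).left.fromSpecStalk x
  let τ : Spec O ⟶ Spec A := w ≫ (Red.bc g X).hom
  obtain ⟨θ, hθ⟩ := Spec.map_surjective τ
  let p : PrimeSpectrum A := (Red.bc g X).hom x
  let toG (D : CommRingCat.{u}) : D →* Γ(Spec D, ⊤) := ((Scheme.ΓSpecIso D).inv.hom : D →+* _)
  let lft {D : CommRingCat.{u}} (φ : O ⟶ D) (ch : N →* D) : CommRingCat.of (MonoidAlgebra O N) ⟶ D :=
    CommRingCat.ofHom (MonoidAlgebra.liftNCRingHom φ.hom ch fun _ _ => Commute.all _ _)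
  let inc : O ⟶ CommRingCat.of (MonoidAlgebra O N) := CommRingCat.ofHom MonoidAlgebra.singleOneRingHom
  let t₁ : Over (Spec A) := Over.mk (Spec.map inc ≫ τ)
  let x₁ : t₁ ⟶ Red.bc g X := Over.homMk (Spec.map inc ≫ w) (Category.assoc _ _ _)
  let χ₁ : Multiplicative M →* Γ(t₁.left, ⊤) :=
    ((toG (CommRingCat.of (MonoidAlgebra O N))).comp (MonoidAlgebra.of O N)).comp φN
  have gen : ∀ {D : CommRingCat.{u}} {t : Spec D ⟶ Spec A} (φ : O ⟶ D) (ch : N →* D)
      (y : Over.mk t ⟶ Red.bc g X), y.left = Spec.map φ ≫ w →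
      (actPt e a (((toG D).comp ch).comp φN) y).left =
        Spec.map (lft φ ch) ≫ (actPt e a χ₁ x₁).left := by
    intro D t φ ch y hy
    have hl : inc ≫ lft φ ch = φ := by
      ext b
      simp [inc, lft]
    have ht : Spec.map (lft φ ch) ≫ t₁.hom = t := by
      show Spec.map (lft φ ch) ≫ Spec.map inc ≫ τ = t
      rw [← Category.assoc, ← Spec.map_comp, hl]
      show Spec.map φ ≫ w ≫ _ = t
      rw [← Category.assoc, ← hy]
      exact Over.w y
    let h : Over.mk t ⟶ t₁ := Over.homMk (Spec.map (lft φ ch)) ht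
    have h1 : h ≫ x₁ = y := by
      apply Over.OverMorphism.ext
      show Spec.map (lft φ ch) ≫ Spec.map inc ≫ w = y.left
      rw [← Category.assoc, ← Spec.map_comp, hl, hy]
    have h2 : ((RingHom.toMonoidHom h.left.appTop.hom).comp χ₁) =
        (((toG D).comp ch).comp φN : Multiplicative M →* Γ((Over.mk t).left, ⊤)) := by
      refine MonoidHom.ext fun m => ?_
      show (Spec.map (lft φ ch)).appTop ((Scheme.ΓSpecIso _).inv (MonoidAlgebra.single (φN m) 1)) = _
      rw [← CommRingCat.comp_apply, ← Scheme.ΓSpecIso_inv_naturality, CommRingCat.comp_apply]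
      refine congrArg (fun z => (Scheme.ΓSpecIso D).inv z) ?_
      show (MonoidAlgebra.liftNCRingHom φ.hom ch fun _ _ => Commute.all _ _)
        (MonoidAlgebra.single (φN m) 1) = ch (φN m)
      exact (MonoidAlgebra.liftNCRingHom_single φ.hom ch _ (φN m) 1).trans
        (by rw [map_one, _root_.one_mul])
    rw [← h2, ← h1]
    exact (congr(($(comp_actPt e a h χ₁ x₁)).left)).symm
  have htriv' : ∀ {D : CommRingCat.{u}} {t : Spec D ⟶ Spec A} (φ : O ⟶ D),
      (∀ z ∈ p.asIdeal, φ.hom (θ.hom z) = 0) → (∀ z, z ∉ p.asIdeal → IsUnit (φ.hom (θ.hom z))) →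
      t = Spec.map φ ≫ τ → ∀ (χ : Multiplicative M →* Γ(Spec D, ⊤)) (y : Over.mk t ⟶ Red.bc g X),
      actPt e a χ y = y := by
    intro D t φ h0 h1 ht
    refine htriv D (Ideal.ResidueField.lift p.asIdeal (φ.hom.comp θ.hom) h0 h1) t ?_
    rw [ht, ← hθ, ← Spec.map_comp]
    congr 1
    ext z
    exact (Ideal.ResidueField.lift_algebraMap p.asIdeal (φ.hom.comp θ.hom) h0 h1 z).symm
  have hθp : ∀ z, θ.hom z ∈ IsLocalRing.maximalIdeal O ↔ z ∈ p.asIdeal := by
    intro z
    have : τ (IsLocalRing.closedPoint O) = p := by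
      show (Red.bc g X).hom (w (IsLocalRing.closedPoint O)) = p
      rw [show w (IsLocalRing.closedPoint O) = x from Scheme.fromSpecStalk_closedPoint]
    rw [← this, ← hθ]
    rfl
  haveI : Module.Finite O (MonoidAlgebra O N) := Module.Finite.equiv (MonoidAlgebra.coeffLinearEquiv O).symm
  haveI : Algebra.IsIntegral O (MonoidAlgebra O N) := Algebra.IsIntegral.of_finite _ _
  -- the universal action lands in the local scheme
  have hspec : ∀ d, (actPt e a χ₁ x₁).left d ⤳ x := by
    intro d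
    obtain ⟨q, hq, hdq⟩ := Ideal.exists_le_maximal (PrimeSpectrum.asIdeal d) d.2.ne_top
    haveI := hq
    let r : Spec (CommRingCat.of (MonoidAlgebra O N)) := ⟨q, hq.isPrime⟩
    have hsp : d ⤳ r := (PrimeSpectrum.le_iff_specializes d r).mp hdq
    refine (hsp.map (actPt e a χ₁ x₁).left.continuous).trans (specializes_of_eq ?_)
    let D : CommRingCat.{u} := CommRingCat.of (MonoidAlgebra O N ⧸ q)
    let ψ : CommRingCat.of (MonoidAlgebra O N) ⟶ D := CommRingCat.ofHom (Ideal.Quotient.mk q)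
    haveI : Nontrivial D := Ideal.Quotient.nontrivial_iff.mpr hq.ne_top
    let pt : Spec D := Classical.arbitrary (PrimeSpectrum (MonoidAlgebra O N ⧸ q))
    have hr : Spec.map ψ pt = r := by
      apply PrimeSpectrum.ext
      refine (hq.eq_of_le (Ideal.IsPrime.ne_top inferInstance) ?_).symm
      intro z hz
      show Ideal.Quotient.mk q z ∈ pt.asIdeal
      rw [Ideal.Quotient.eq_zero_iff_mem.mpr hz]
      exact zero_mem _
    have hm : q.comap (algebraMap O (MonoidAlgebra O N)) = IsLocalRing.maximalIdeal O :=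
      IsLocalRing.eq_maximalIdeal (Ideal.isMaximal_comap_of_isIntegral_of_isMaximal q)
    have hker : ∀ z, (inc ≫ ψ).hom z = 0 ↔ z ∈ IsLocalRing.maximalIdeal O := fun z => by
      rw [← hm, Ideal.mem_comap]
      exact Ideal.Quotient.eq_zero_iff_mem
    let h : Over.mk (Spec.map ψ ≫ t₁.hom) ⟶ t₁ := Over.homMk (Spec.map ψ)
    have htr : actPt e a ((RingHom.toMonoidHom h.left.appTop.hom).comp χ₁) (h ≫ x₁) = h ≫ x₁ :=
      htriv' (inc ≫ ψ) (fun z hz => (hker _).mpr ((hθp z).mpr hz))
        (fun z hz => (IsLocalRing.notMem_maximalIdeal.mp fun hz' => hz ((hθp z).mp hz')).map (inc ≫ ψ).hom)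
        (by rw [Spec.map_comp, Category.assoc]; rfl) _ _
    have h1 := congr(($((comp_actPt e a h χ₁ x₁).trans htr)).left pt)
    have h2 : Spec.map inc r = IsLocalRing.closedPoint O := PrimeSpectrum.ext hm
    change (actPt e a χ₁ x₁).left (Spec.map ψ pt) = w (Spec.map inc (Spec.map ψ pt)) at h1
    rw [hr, h2] at h1
    exact h1.trans Scheme.fromSpecStalk_closedPoint
  obtain ⟨ρ, hρw⟩ := exists_fac_fromSpecStalk x _ hspec
  change Spec.map ρ ≫ w = _ at hρw
  have gen' : ∀ {D : CommRingCat.{u}} {t : Spec D ⟶ Spec A} (φ : O ⟶ D) (ch : N →* D)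
      (y : Over.mk t ⟶ Red.bc g X), y.left = Spec.map φ ≫ w →
      (actPt e a (((toG D).comp ch).comp φN) y).left = Spec.map (ρ ≫ lft φ ch) ≫ w := by
    intro D t φ ch y hy
    rw [gen φ ch y hy, ← hρw, Spec.map_comp, Category.assoc]
  -- counit
  have hε : ρ ≫ lft (𝟙 O) 1 = 𝟙 O := by
    have h := gen' (t := τ) (𝟙 O) 1 (Over.homMk w) (by rw [Spec.map_id]; exact (Category.id_comp _).symm)
    rw [MonoidHom.comp_one, MonoidHom.one_comp, actPt_one] at h
    apply Spec.map_injective
    rw [← cancel_mono w, ← h, Spec.map_id]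
    exact (Category.id_comp _).symm
  -- invariance of the base
  have hbase : θ ≫ ρ = θ ≫ inc := by
    apply Spec.map_injective
    rw [Spec.map_comp, Spec.map_comp, hθ, ← Category.assoc, hρw, Over.w]
    rfl
  -- coassociativity
  let O₂ : CommRingCat.{u} := CommRingCat.of (MonoidAlgebra O (N × N))
  let inc2 : O ⟶ O₂ := CommRingCat.ofHom MonoidAlgebra.singleOneRingHom
  let ch₁ : N →* O₂ := (MonoidAlgebra.of O (N × N)).comp (MonoidHom.inl N N)
  let ch₂ : N →* O₂ := (MonoidAlgebra.of O (N × N)).comp (MonoidHom.inr N N)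
  have hco : ρ ≫ lft inc2 (ch₁ * ch₂) = ρ ≫ lft (ρ ≫ lft inc2 ch₂) ch₁ := by
    let t : Spec O₂ ⟶ Spec A := Spec.map inc2 ≫ τ
    let y : Over.mk t ⟶ Red.bc g X := Over.homMk (Spec.map inc2 ≫ w) (Category.assoc _ _ _)
    have e2 := gen' inc2 ch₂ y rfl
    have e1 := gen' (t := t) _ ch₁ _ e2
    have e12 := gen' inc2 (ch₁ * ch₂) y rfl
    have hm : ((toG O₂).comp (ch₁ * ch₂)).comp φN =
        ((toG O₂).comp ch₁).comp φN * ((toG O₂).comp ch₂).comp φN := by
      ext m
      simp
    rw [hm, actPt_mul, e1] at e12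
    exact (Spec.map_injective ((cancel_mono w).mp e12)).symm
  -- triviality modulo the closed fibre
  let J : Ideal O := p.asIdeal.map θ.hom
  have hJm : J ≤ IsLocalRing.maximalIdeal O := Ideal.map_le_iff_le_comap.mpr fun z hz => (hθp z).mpr hz
  have hmod : ∀ b m, m ≠ 1 → (ρ.hom b).coeff m ∈ J := by
    let D : CommRingCat.{u} := CommRingCat.of (MonoidAlgebra (O ⧸ J) N)
    let φ : O ⟶ D := CommRingCat.ofHom (MonoidAlgebra.singleOneRingHom.comp (Ideal.Quotient.mk J))
    let y : Over.mk (Spec.map φ ≫ τ) ⟶ Red.bc g X := Over.homMk (Spec.map φ ≫ w) (Category.assoc _ _ _)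
    have h := gen' φ (MonoidAlgebra.of (O ⧸ J) N) y rfl
    rw [htriv' φ (fun z hz => by
          show MonoidAlgebra.singleOneRingHom (Ideal.Quotient.mk J (θ.hom z)) = 0
          rw [Ideal.Quotient.eq_zero_iff_mem.mpr (Ideal.mem_map_of_mem θ.hom hz), map_zero])
        (fun z hz => (IsLocalRing.notMem_maximalIdeal.mp fun hz' => hz ((hθp z).mp hz')).map φ.hom)
        rfl _ y] at h
    have hb := Spec.map_injective ((cancel_mono w).mp h)
    intro b m hm
    rw [← Ideal.Quotient.eq_zero_iff_mem]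
    have hl : ∀ z : MonoidAlgebra O N, ((lft φ (MonoidAlgebra.of (O ⧸ J) N)).hom z).coeff m =
        Ideal.Quotient.mk J (z.coeff m) := by
      intro z
      induction z using MonoidAlgebra.induction_linear with
      | zero => rw [map_zero]; simp
      | add z z' hz hz' =>
        rw [map_add]
        erw [MonoidAlgebra.coeff_add, Finsupp.add_apply, hz, hz']
        simp
      | single n r =>
        show (MonoidAlgebra.liftNCRingHom φ.hom _ (fun _ _ => Commute.all _ _)
          (MonoidAlgebra.single n r) : MonoidAlgebra (O ⧸ J) N).coeff m = _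
        rw [MonoidAlgebra.liftNCRingHom_single]
        show (MonoidAlgebra.single (1 : N) (Ideal.Quotient.mk J r) * MonoidAlgebra.single n 1 :
          MonoidAlgebra (O ⧸ J) N).coeff m = _
        simp [MonoidAlgebra.single_mul_single, Finsupp.single_apply, apply_ite (Ideal.Quotient.mk J)]
    rw [← hl, ← CommRingCat.comp_apply, ← hb]
    show (MonoidAlgebra.single (1 : N) (Ideal.Quotient.mk J b)).coeff m = 0
    rw [MonoidAlgebra.coeff_single, Finsupp.single_eq_of_ne hm]
  -- finitely many generators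
  obtain ⟨W, hW, hxW, -⟩ := exists_isAffineOpen_mem_and_subset (X := (Red.bc g X).left) (x := x) (U := ⊤) trivial
  haveI : LocallyOfFiniteType (Red.bc g X).hom := inferInstanceAs (LocallyOfFiniteType (pullback.snd X.hom g))
  have hft : ((Red.bc g X).hom.appLE ⊤ W le_top).hom.FiniteType :=
    LocallyOfFiniteType.finiteType_appLE _ (isAffineOpen_top _) hW le_top
  let etaW : A ⟶ Γ((Red.bc g X).left, W) := (Scheme.ΓSpecIso A).inv ≫ (Red.bc g X).hom.appLE ⊤ W le_top
  have hetaWft : etaW.hom.FiniteType :=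
    hft.comp (RingHom.FiniteType.of_surjective _ (ConcreteCategory.bijective_of_isIso (Scheme.ΓSpecIso A).inv).2)
  have hetaWθ : etaW ≫ (Red.bc g X).left.presheaf.germ W x hxW = θ := by
    apply Spec.map_injective
    rw [hθ, Spec.map_comp, Spec.map_comp]
    show _ = (Red.bc g X).left.fromSpecStalk x ≫ _
    rw [← hW.fromSpecStalk_eq_fromSpecStalk hxW, IsAffineOpen.fromSpecStalk, Category.assoc]
    congr 1
    rw [← IsAffineOpen.SpecMap_appLE_fromSpec (Red.bc g X).hom (isAffineOpen_top _) hW le_top,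
      IsAffineOpen.fromSpec_top, Scheme.isoSpec_Spec_inv]
  letI : Algebra A Γ((Red.bc g X).left, W) := etaW.hom.toAlgebra
  letI : Algebra Γ((Red.bc g X).left, W) O := ((Red.bc g X).left.presheaf.germ W x hxW).hom.toAlgebra
  letI : Algebra A O := θ.hom.toAlgebra
  haveI : IsScalarTower A Γ((Red.bc g X).left, W) O :=
    .of_algebraMap_eq' (congrArg CommRingCat.Hom.hom hetaWθ.symm)
  haveI : IsLocalization.AtPrime O (hW.primeIdealOf ⟨x, hxW⟩).asIdeal := hW.isLocalization_stalk ⟨x, hxW⟩
  haveI : Algebra.FiniteType A Γ((Red.bc g X).left, W) := hetaWft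
  obtain ⟨F, hF⟩ := (Algebra.FiniteType.out : (⊤ : Subalgebra A Γ((Red.bc g X).left, W)).FG)
  let emb := IsScalarTower.toAlgHom A Γ((Red.bc g X).left, W) O
  have hF' : ∀ b, emb b ∈ Algebra.adjoin A ((F.image emb : Finset O) : Set O) := fun b => by
    rw [Finset.coe_image, Algebra.adjoin_image]
    exact ⟨b, hF ▸ Algebra.mem_top, rfl⟩
  have hρ : ρ.hom = MonoidAlgebra.singleOneRingHom := by
    refine eq_inc_of_local ρ.hom
      (CoactTrivial.counit_of_lift ρ.hom fun b => congr((CommRingCat.Hom.hom $hε) b))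
      (CoactTrivial.coassoc_of_lift ρ.hom fun b => congr((CommRingCat.Hom.hom $hco) b))
      (fun z => congr((CommRingCat.Hom.hom $hbase) z)) p.asIdeal hJm (F.image emb) (fun z => ?_) hmod
    obtain ⟨⟨b, s⟩, hz⟩ := IsLocalization.surj (hW.primeIdealOf ⟨x, hxW⟩).asIdeal.primeCompl z
    exact ⟨emb s, hF' _, IsLocalization.map_units O s, hz ▸ hF' b⟩
  -- conclusion
  have hch : ch = (toG D).comp (((Scheme.ΓSpecIso D).hom.hom : Γ(Spec D, ⊤) →* D).comp ch) := by
    ext m
    simp [toG]
  apply Over.OverMorphism.ext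
  rw [hch, gen' φ _ y hy, hy]
  congr 2
  ext b
  rw [CommRingCat.comp_apply,
    show (ConcreteCategory.hom ρ) b = MonoidAlgebra.singleOneRingHom b from congr($hρ b)]
  simp [lft]
  rfl

end Groth.Agent.Lib.CentralNhd
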