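import Groth.Agent.Lib.CentralNhd.FieldFibre
import Groth.Agent.Lib.GrpSch.ConnFibre
import Groth.Agent.Lib.HTopSheaf.BlowUpSquare
import Groth.Agent.S2575
import Groth.Agent.S3403
import Groth.Agent.S3402
import Groth.Agent.S5256
import Groth.Agent.H87.Normal
import Mathlib.AlgebraicGeometry.Morphisms.UniversallyOpen

/-!
# A homomorphism from a group of multiplicative type central at a point is central near it
-/

set_option autoImplicit false
set_option linter.style.haveILetI false
set_option backward.isDefEq.respectTransparency false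
set_option backward.isDefEq.respectTransparency.types false
universe u

open CategoryTheory MonoidalCategory CartesianMonoidalCategory MonObj GrpObj AlgebraicGeometry
open CategoryTheory.Limits
open Groth.Agent.Lib.RedPts Groth.Agent.H87

namespace Groth.Agent.Lib.CentralNhd

variable {S : Scheme.{u}} {H G : Over S} [GrpObj H] [GrpObj G] (u : H ⟶ G)

theorem centralOn_comp {T T' : Scheme.{u}} (c : T' ⟶ T) {t : T ⟶ S} (ht : CentralOn u t) :
    CentralOn u (c ≫ t) :=
  fun Y p gp h => ht Y (p ≫ Over.homMk c) gp h

theorem centralOn_congr {T : Scheme.{u}} {t t' : T ⟶ S} (e : t = t') (ht : CentralOn u t) :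
    CentralOn u t' := e ▸ ht

theorem centralOn_of_comp {T T' : Scheme.{u}} (c : T' ⟶ T) [Flat c] [Surjective c] {t : T ⟶ S}
    (ht : CentralOn u (c ≫ t)) : CentralOn u t := by
  intro Y p gp h
  let Y' : Over S := Over.mk (pullback.fst p.left c ≫ Y.hom)
  let q : Y' ⟶ Y := Over.homMk (pullback.fst p.left c)
  let p' : Y' ⟶ Over.mk (c ≫ t) := Over.homMk (pullback.snd p.left c) (by
    show pullback.snd p.left c ≫ c ≫ t = pullback.fst p.left c ≫ Y.hom
    rw [← pullback.condition_assoc, ← Over.w p]
    rfl)
  haveI : Epi q := by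
    haveI : Epi q.left := Flat.epi_of_flat_of_surjective (pullback.fst p.left c)
    exact Over.epi_of_epi_left q
  rw [← cancel_epi q, comp_mul, comp_mul, ← Category.assoc]
  exact ht Y' p' _ _

theorem centralOn_field_iff {K : Type u} [Field K] (k : Spec (CommRingCat.of K) ⟶ S) :
    CentralOn u k ↔ CentralOn u (S.fromSpecResidueField (k (IsLocalRing.closedPoint K))) := by
  let q : Spec (CommRingCat.of K) ⟶ Spec (S.residueField (k (IsLocalRing.closedPoint K))) :=
    Spec.map (S.descResidueField (Scheme.stalkClosedPointTo k))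
  have hk : q ≫ S.fromSpecResidueField (k (IsLocalRing.closedPoint K)) = k :=
    Scheme.descResidueField_stalkClosedPointTo_fromSpecResidueField K S k
  haveI : Flat q := by
    letI := (S.descResidueField (Scheme.stalkClosedPointTo k)).hom.toAlgebra
    rw [HasRingHomProperty.Spec_iff (P := @Flat)]
    exact (RingHom.flat_algebraMap_iff.mpr
      (inferInstanceAs (Module.Flat (S.residueField (k (IsLocalRing.closedPoint K))) K)))
  haveI : Nonempty ↥(Spec (CommRingCat.of K)) := inferInstanceAs (Nonempty (PrimeSpectrum K))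
  haveI : Subsingleton ↥(Spec (S.residueField (k (IsLocalRing.closedPoint K)))) :=
    inferInstanceAs (Subsingleton (PrimeSpectrum (S.residueField (k (IsLocalRing.closedPoint K)))))
  haveI : Surjective q := ⟨fun y => ⟨Classical.arbitrary _, Subsingleton.elim _ _⟩⟩
  exact ⟨fun h => centralOn_of_comp u q (centralOn_congr u hk.symm h),
    fun h => centralOn_congr u hk (centralOn_comp u q h)⟩

theorem centralOn_residue_of_prime {A : CommRingCat.{u}} (g : Spec A ⟶ S) (p : PrimeSpectrum A) :
    CentralOn u (Spec.map (CommRingCat.ofHom (algebraMap A p.asIdeal.ResidueField)) ≫ g) ↔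
      CentralOn u (S.fromSpecResidueField (g p)) := by
  rw [centralOn_field_iff]
  have : (Spec.map (CommRingCat.ofHom (algebraMap A p.asIdeal.ResidueField)))
      (IsLocalRing.closedPoint p.asIdeal.ResidueField) = p :=
    PrimeSpectrum.ext (((congrArg (Ideal.comap (algebraMap A p.asIdeal.ResidueField))
      (IsLocalRing.isField_iff_maximalIdeal_eq.mp (Field.toIsField _))).trans
      (Ideal.ker_algebraMap_residueField p.asIdeal)))
  rw [Scheme.Hom.comp_apply, this]
  exact Iff.rfl

variable [IsMonHom u]

/-- Centrality passes to generizations. -/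
theorem centralOn_generization [LocallyOfFiniteType G.hom] (hH : SGA3x.IsMultTypeFT H)
    (hconn : ∀ t : S, ConnectedSpace ↥(pullback G.hom (S.fromSpecResidueField t))) {s t : S} (hts : t ⤳ s)
    (hs : CentralOn u (S.fromSpecResidueField s)) : CentralOn u (S.fromSpecResidueField t) := by
  obtain ⟨S', f, hf, hsurj, -, hloc⟩ := hH
  obtain ⟨s₁, rfl⟩ := hsurj.surj s
  obtain ⟨U, hU, M, iM, hM, ⟨e₀⟩⟩ := hloc s₁
  obtain ⟨V, hV, hsV, -⟩ := exists_isAffineOpen_mem_and_subset (X := (U : Scheme.{u}))
    (x := ⟨s₁, hU⟩) (U := ⊤) trivial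
  haveI := hV.isOpenImmersion_fromSpec
  let g : Spec Γ(U, V) ⟶ S := hV.fromSpec ≫ U.ι ≫ f
  let e := Charts.resChart e₀ hV.fromSpec
  let a : Spec Γ(U, V) := hV.primeIdealOf ⟨⟨s₁, hU⟩, hsV⟩
  have ha : g a = f s₁ := by
    show (hV.fromSpec ≫ U.ι ≫ f) a = f s₁
    rw [Scheme.Hom.comp_apply, hV.fromSpec_primeIdealOf]
    rfl
  haveI : Flat g := inferInstanceAs (Flat (hV.fromSpec ≫ U.ι ≫ f))
  obtain ⟨a', ha', hga'⟩ := Flat.generalizingMap g (a := a) (show t ⤳ g a from ha.symm ▸ hts)
  let p' : PrimeSpectrum Γ(U, V) := a'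
  let k := Spec.map (CommRingCat.ofHom (algebraMap Γ(U, V) p'.asIdeal.ResidueField))
  have hk : k (IsLocalRing.closedPoint p'.asIdeal.ResidueField) = a' :=
    PrimeSpectrum.ext (((congrArg (Ideal.comap (algebraMap Γ(U, V) p'.asIdeal.ResidueField))
      (IsLocalRing.isField_iff_maximalIdeal_eq.mp (Field.toIsField _))).trans
      (Ideal.ker_algebraMap_residueField p'.asIdeal)))
  haveI : GeometricallyConnected G.hom :=
    Groth.Agent.Lib.GrpSch.geometricallyConnected_of_section G.hom η[G].left (Over.w η[G]) hconn
  haveI : ConnectedSpace (Red.bc k (Red.bc g G)).left := by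
    haveI : ConnectedSpace ↥(pullback G.hom (k ≫ g)) :=
      GeometricallyConnected.geometrically_connectedSpace _ _ _ (.of_hasPullback _ _)
    exact (pullbackLeftPullbackSndIso G.hom g k).inv.homeomorph.surjective.connectedSpace
      (pullbackLeftPullbackSndIso G.hom g k).inv.continuous
  have h1 : CentralOn u (k ≫ g) := centralOn_of_specializes e u k a
    ((centralOn_residue_of_prime u g a).mpr (ha.symm ▸ hs)) (hk.symm ▸ ha')
  have h2 := (centralOn_residue_of_prime u g p').mp h1
  exact (show g p' = t from hga') ▸ h2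

omit [IsMonHom u] in
/-- The set where `u` is central is locally constructible. -/
theorem isLocallyConstructible_centralOn [LocallyOfFinitePresentation H.hom] [QuasiCompact H.hom]
    [QuasiSeparated H.hom] [LocallyOfFinitePresentation G.hom] [QuasiCompact G.hom] [QuasiSeparated G.hom] :
    Topology.IsLocallyConstructible {s : S | CentralOn u (S.fromSpecResidueField s)} := by
  let a : H ⊗ G ⟶ G := snd H G * (fst H G ≫ u)
  let b : H ⊗ G ⟶ G := (fst H G ≫ u) * snd H G
  let ab := (lift a b).left
  let j := pullback.fst ab (pullback.diagonal G.hom)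
  haveI : LocallyOfFinitePresentation (H ⊗ G).hom :=
    inferInstanceAs (LocallyOfFinitePresentation (pullback.fst H.hom G.hom ≫ H.hom))
  haveI : QuasiCompact (H ⊗ G).hom := inferInstanceAs (QuasiCompact (pullback.fst H.hom G.hom ≫ H.hom))
  haveI : QuasiSeparated (H ⊗ G).hom := inferInstanceAs (QuasiSeparated (pullback.fst H.hom G.hom ≫ H.hom))
  haveI : LocallyOfFinitePresentation (pullback.diagonal G.hom) := Groth.Agent.Lib.HTopSheaf.BlowUpSquare.lfp_diagonal G.hom
  haveI : LocallyOfFinitePresentation j := inferInstance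
  haveI : QuasiCompact j := inferInstance
  haveI : QuasiSeparated j := inferInstance
  haveI : Mono j := inferInstance
  convert Groth.Agent.S2575.result j (H ⊗ G).hom using 1
  ext s
  let i := S.fromSpecResidueField s
  let fm : pullback (j ≫ (H ⊗ G).hom) i ⟶ pullback (H ⊗ G).hom i :=
    pullback.lift (pullback.fst (j ≫ (H ⊗ G).hom) i ≫ j) (pullback.snd (j ≫ (H ⊗ G).hom) i)
      ((Category.assoc _ _ _).trans pullback.condition)
  show CentralOn u i ↔ IsIso fm
  haveI : Mono fm := ⟨fun x y hxy => by
    refine pullback.hom_ext ?_ ?_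
    · have h := congr($hxy ≫ pullback.fst _ _)
      simp only [fm, Category.assoc, pullback.lift_fst] at h
      rw [← cancel_mono j]
      simpa only [Category.assoc] using h
    · have h := congr($hxy ≫ pullback.snd _ _)
      simpa only [fm, Category.assoc, pullback.lift_snd] using h⟩
  constructor
  · intro hc
    let P : Over S := Over.mk (pullback.fst (H ⊗ G).hom i ≫ (H ⊗ G).hom)
    let q : P ⟶ H ⊗ G := Over.homMk (pullback.fst (H ⊗ G).hom i)
    let p : P ⟶ Over.mk i := Over.homMk (pullback.snd (H ⊗ G).hom i) pullback.condition.symm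
    have hqab : q ≫ a = q ≫ b := by
      simp only [a, b, comp_mul, ← Category.assoc]
      exact hc P p (q ≫ snd H G) (q ≫ fst H G)
    have hfac : pullback.fst (H ⊗ G).hom i ≫ ab =
        (pullback.fst (H ⊗ G).hom i ≫ a.left) ≫ pullback.diagonal G.hom := by
      refine pullback.hom_ext ?_ ?_
      · simp [ab]
      · have h := congr(($hqab).left)
        simp only [Over.comp_left] at h
        simpa [ab, q] using h.symm
    let σ : pullback (H ⊗ G).hom i ⟶ pullback (j ≫ (H ⊗ G).hom) i :=
      pullback.lift (pullback.lift (pullback.fst _ _) _ hfac) (pullback.snd _ _) (by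
        rw [pullback.lift_fst_assoc, pullback.condition])
    have hσ : σ ≫ fm = 𝟙 _ := by
      refine pullback.hom_ext ?_ ?_ <;> simp [σ, fm, j]
    exact ⟨σ, by rw [← cancel_mono fm, Category.assoc, hσ, Category.comp_id, Category.id_comp], hσ⟩
  · intro hiso Y p gp h
    let q : Y ⟶ H ⊗ G := lift h gp
    let m : Y.left ⟶ pullback (H ⊗ G).hom i := pullback.lift q.left p.left ((Over.w q).trans (Over.w p).symm)
    let l := m ≫ inv fm ≫ pullback.fst _ _
    have hl : l ≫ j = q.left := by
      have : inv fm ≫ pullback.fst (j ≫ (H ⊗ G).hom) i ≫ j = pullback.fst (H ⊗ G).hom i := by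
        rw [IsIso.inv_comp_eq]
        exact (pullback.lift_fst _ _ _).symm
      simp only [l, Category.assoc]
      rw [this]
      exact pullback.lift_fst _ _ _
    have hab : q ≫ a = q ≫ b := by
      have hc := congr(l ≫ $(pullback.condition (f := ab) (g := pullback.diagonal G.hom)))
      rw [← Category.assoc, hl] at hc
      have h1 := congr($hc ≫ pullback.fst G.hom G.hom)
      have h2 := congr($hc ≫ pullback.snd G.hom G.hom)
      simp only [ab, Category.assoc, pullback.diagonal_fst, pullback.diagonal_snd, Category.comp_id] at h1 h2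
      apply Over.OverMorphism.ext
      rw [Over.comp_left, Over.comp_left]
      refine Eq.trans ?_ (h1.trans (h2.symm.trans ?_))
      · simp
      · simp
    simp only [a, b, q, comp_mul, lift_snd, lift_fst_assoc] at hab
    exact hab

omit [IsMonHom u] in
/-- Fibre centrality over `S` gives fibre centrality of the base change. -/
theorem fibre_central_of_bc {T : Scheme.{u}} (c : T ⟶ S) (y : T)
    (hy : CentralOn u (T.fromSpecResidueField y ≫ c)) (X : Over (Spec (T.residueField y)))
    (gp : X ⟶ Red.bc (T.fromSpecResidueField y) (Red.bc c G))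
    (h : X ⟶ Red.bc (T.fromSpecResidueField y) (Red.bc c H)) :
    gp * (h ≫ (Over.pullback (T.fromSpecResidueField y)).map ((Over.pullback c).map u)) =
      (h ≫ (Over.pullback (T.fromSpecResidueField y)).map ((Over.pullback c).map u)) * gp := by
  let X₁ := (Over.map (T.fromSpecResidueField y)).obj X
  let pX : (Over.map c).obj X₁ ⟶ Over.mk (T.fromSpecResidueField y ≫ c) :=
    Over.homMk X.hom (Category.assoc _ _ _).symm
  have e1 : BC.down c (BC.down (T.fromSpecResidueField y)
      (h ≫ (Over.pullback (T.fromSpecResidueField y)).map ((Over.pullback c).map u))) =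
      BC.down c (BC.down (T.fromSpecResidueField y) h) ≫ u := by
    rw [BC.down_map (f := T.fromSpecResidueField y) (Y := Red.bc c H) (Y' := Red.bc c G) h ((Over.pullback c).map u)]
    exact BC.down_map _ _
  have hh := hy _ pX (BC.down c (BC.down (T.fromSpecResidueField y) gp))
    (BC.down c (BC.down (T.fromSpecResidueField y) h))
  rw [← e1] at hh
  apply BC.down_injective
  rw [BC.down_mul, BC.down_mul]
  apply BC.down_injective
  rw [BC.down_mul, BC.down_mul]
  exact hh

set_option maxHeartbeats 1000000 in
/-- Central at a point implies central near it. -/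
theorem exists_nhd_centralOn [LocallyOfFinitePresentation G.hom] [QuasiCompact G.hom] [QuasiSeparated G.hom]
    (hH : SGA3x.IsMultTypeFT H)
    (hconn : ∀ t : S, ConnectedSpace ↥(pullback G.hom (S.fromSpecResidueField t))) {s : S}
    (hs : CentralOn u (S.fromSpecResidueField s)) :
    ∃ U : S.Opens, s ∈ U ∧ CentralOn u U.ι := by
  haveI := MT.isAffineHom hH
  haveI := MT.locallyOfFinitePresentation hH
  have hC := isLocallyConstructible_centralOn u
  have hI := ((Groth.Agent.S3402.result S _).mp hC).1
  obtain hint := (Groth.Agent.S3403.result S _ hI s).mpr fun t ht => centralOn_generization u hH hconn ht hs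
  let U : S.Opens := ⟨interior {t : S | CentralOn u (S.fromSpecResidueField t)}, isOpen_interior⟩
  refine ⟨U, hint, ?_⟩
  let H' := Red.bc U.ι H
  let G' := Red.bc U.ι G
  let u' : H' ⟶ G' := (Over.pullback U.ι).map u
  haveI : LocallyOfFinitePresentation G'.hom := inferInstanceAs (LocallyOfFinitePresentation (pullback.snd G.hom U.ι))
  haveI : QuasiCompact G'.hom := inferInstanceAs (QuasiCompact (pullback.snd G.hom U.ι))
  haveI : QuasiSeparated G'.hom := inferInstanceAs (QuasiSeparated (pullback.snd G.hom U.ι))
  have hcent := Groth.Agent.S5256.result H' G' (Normal.multTypeFT_bc hH U.ι) u' fun y X gp h =>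
    fibre_central_of_bc u U.ι y (centralOn_congr u (U.ι.SpecMap_residueFieldMap_fromSpecResidueField y)
      (centralOn_comp u _ (interior_subset y.2))) X gp h
  intro Y p gp h
  let T : Over (U : Scheme.{u}) := Over.mk p.left
  let φ : (Over.map U.ι).obj T ≅ Y := Over.isoMk (Iso.refl _) ((Category.id_comp _).trans (Over.w p).symm)
  have := congrArg (BC.down U.ι) (hcent T (BC.up _ (φ.hom ≫ gp)) (BC.up _ (φ.hom ≫ h)))
  rw [BC.down_mul, BC.down_mul, BC.down_map, BC.down_up, BC.down_up, Category.assoc] at this
  rw [← cancel_epi φ.hom, comp_mul, comp_mul]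
  exact this

end Groth.Agent.Lib.CentralNhd
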